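import Groth.Agent.Lib.Helper22.CechU.Bridge

/-!
# The Čech complex is compatible with functors preserving finite products
-/

set_option autoImplicit false

universe w v₁ v₂ u₁ u₂

open CategoryTheory CategoryTheory.Limits Opposite

namespace Groth.Agent.Lib.Helper22.CechU

variable {D : Type u₁} [Category.{v₁} D] [HasFiniteProducts D]
  {D' : Type u₂} [Category.{v₂} D'] [HasFiniteProducts D']
  (G : D ⥤ D') {ι : Type w} (U : ι → D) (Q : D'ᵒᵖ ⥤ AddCommGrpCat.{w})

/-- The image family. -/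
abbrev GU : ι → D' := fun i => G.obj (U i)

/-- The comparison map `G(∏ U∘σ) ⟶ ∏ (G∘U)∘σ`. -/
noncomputable def cmp {n : ℕ} (σ : Fin (n + 1) → ι) : G.obj (Uσ U σ) ⟶ Uσ (GU G U) σ :=
  Pi.lift fun j => G.map (Pi.π (U ∘ σ) j)

@[reassoc (attr := simp)]
lemma cmp_π {n : ℕ} (σ : Fin (n + 1) → ι) (j : Fin (n + 1)) :
    cmp G U σ ≫ Pi.π (GU G U ∘ σ) j = G.map (Pi.π (U ∘ σ) j) := by
  unfold cmp
  exact Pi.lift_π _ _

lemma map_face_cmp {n : ℕ} (σ : Fin (n + 2) → ι) (k : Fin (n + 2)) :
    G.map (face U σ k) ≫ cmp G U (σ ∘ k.succAbove) = cmp G U σ ≫ face (GU G U) σ k := by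
  refine Pi.hom_ext (f := GU G U ∘ (σ ∘ k.succAbove)) _ _ (fun j => ?_)
  rw [Category.assoc, Category.assoc, cmp_π, face_π, cmp_π, ← G.map_comp, face_π]

instance isIso_cmp [PreservesFiniteProducts G] {n : ℕ} (σ : Fin (n + 1) → ι) :
    IsIso (cmp G U σ) := by
  have : PreservesLimit (Discrete.functor (U ∘ σ)) G :=
    (PreservesFiniteProducts.preserves (F := G) (n + 1)).preservesLimit
  exact inferInstanceAs (IsIso (piComparison G (U ∘ σ)))

/-- The degreewise comparison of Čech cochains. -/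
noncomputable def transferF (n : ℕ) : (CK (GU G U) Q).X n ⟶ (CK U (G.op ⋙ Q)).X n :=
  Pi.lift fun σ : Fin (n + 1) → ι => proj (GU G U) Q n σ ≫ Q.map (cmp G U σ).op

lemma transferF_proj (n : ℕ) (σ : Fin (n + 1) → ι) :
    transferF G U Q n ≫ proj U (G.op ⋙ Q) n σ = proj (GU G U) Q n σ ≫ Q.map (cmp G U σ).op :=
  Pi.lift_π _ σ

lemma transferF_comm (n : ℕ) :
    transferF G U Q n ≫ (CK U (G.op ⋙ Q)).d n (n + 1) =
      (CK (GU G U) Q).d n (n + 1) ≫ transferF G U Q (n + 1) := by
  refine Pi.hom_ext _ _ (fun (σ : Fin (n + 2) → ι) => ?_)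
  change (transferF G U Q n ≫ (CK U (G.op ⋙ Q)).d n (n + 1)) ≫ proj U (G.op ⋙ Q) (n + 1) σ =
    ((CK (GU G U) Q).d n (n + 1) ≫ transferF G U Q (n + 1)) ≫ proj U (G.op ⋙ Q) (n + 1) σ
  rw [Category.assoc, Category.assoc, transferF_proj, d_proj, ← Category.assoc, d_proj,
    Preadditive.comp_sum, Preadditive.sum_comp]
  refine Finset.sum_congr rfl fun k _ => ?_
  rw [Preadditive.comp_zsmul, Preadditive.zsmul_comp]
  congr 1
  rw [← Category.assoc, transferF_proj, Category.assoc, Category.assoc]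
  congr 1
  change Q.map (cmp G U (σ ∘ k.succAbove)).op ≫ Q.map (G.map (face U σ k)).op =
    Q.map (face (GU G U) σ k).op ≫ Q.map (cmp G U σ).op
  rw [← Q.map_comp, ← Q.map_comp, ← op_comp, ← op_comp, map_face_cmp]

/-- The comparison of Čech complexes. -/
noncomputable def transferHom : CK (GU G U) Q ⟶ CK U (G.op ⋙ Q) where
  f n := transferF G U Q n
  comm' i j hij := by
    have : i + 1 = j := hij
    subst this
    exact transferF_comm G U Q i

/-- The inverse of the degreewise comparison. -/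
noncomputable def transferInv [PreservesFiniteProducts G] (n : ℕ) :
    (CK U (G.op ⋙ Q)).X n ⟶ (CK (GU G U) Q).X n :=
  Pi.lift fun σ : Fin (n + 1) → ι => proj U (G.op ⋙ Q) n σ ≫ Q.map (inv (cmp G U σ)).op

lemma transferInv_proj [PreservesFiniteProducts G] (n : ℕ) (σ : Fin (n + 1) → ι) :
    transferInv G U Q n ≫ proj (GU G U) Q n σ =
      proj U (G.op ⋙ Q) n σ ≫ Q.map (inv (cmp G U σ)).op :=
  Pi.lift_π _ σ

instance isIso_transferF [PreservesFiniteProducts G] (n : ℕ) : IsIso (transferF G U Q n) := by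
  refine ⟨transferInv G U Q n, ?_, ?_⟩
  · refine Pi.hom_ext _ _ (fun (σ : Fin (n + 1) → ι) => ?_)
    change (transferF G U Q n ≫ transferInv G U Q n) ≫ proj (GU G U) Q n σ =
      𝟙 _ ≫ proj (GU G U) Q n σ
    rw [Category.assoc, transferInv_proj, ← Category.assoc, transferF_proj, Category.assoc,
      ← Q.map_comp, ← op_comp, IsIso.inv_hom_id, op_id, Q.map_id, Category.comp_id,
      Category.id_comp]
  · refine Pi.hom_ext _ _ (fun (σ : Fin (n + 1) → ι) => ?_)
    change (transferInv G U Q n ≫ transferF G U Q n) ≫ proj U (G.op ⋙ Q) n σ =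
      𝟙 _ ≫ proj U (G.op ⋙ Q) n σ
    rw [Category.assoc, transferF_proj, ← Category.assoc, transferInv_proj, Category.assoc,
      ← Q.map_comp, ← op_comp, IsIso.hom_inv_id, op_id, Category.id_comp]
    erw [Q.map_id, Category.comp_id]

instance isIso_transferHom [PreservesFiniteProducts G] : IsIso (transferHom G U Q) := by
  have : ∀ n, IsIso ((transferHom G U Q).f n) := fun n => isIso_transferF G U Q n
  exact HomologicalComplex.Hom.isIso_of_components _

/-- The Čech complex of `Q` for the image family is isomorphic to that of `G.op ⋙ Q`. -/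
noncomputable def transferIso [PreservesFiniteProducts G] : CK (GU G U) Q ≅ CK U (G.op ⋙ Q) :=
  asIso (transferHom G U Q)

end Groth.Agent.Lib.Helper22.CechU
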