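import Groth.Agent.Lib.Helper22.CechU.Site
import Groth.Prelude.Def_EtCech
import Mathlib

/-!
# Čech cohomology on the small étale site: coverings as jointly surjective families
-/

set_option autoImplicit false

universe u

open CategoryTheory CategoryTheory.Limits Opposite AlgebraicGeometry

namespace Groth.Agent.Lib.Helper22.CechU.Etale

variable {X : Scheme.{u}}

set_option backward.isDefEq.respectTransparency.types false in
/-- Covering sieves of the small étale site are the jointly surjective ones. -/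
lemma mem_smallEtaleTopology_iff (U : X.Etale) (R : Sieve U) :
    R ∈ X.smallEtaleTopology U ↔
      ∀ x : ↥(U.left), ∃ (V : X.Etale) (f : V ⟶ U) (y : ↥(V.left)), R.arrows f ∧ f.left.base y = x := by
  have eX : X.smallEtaleTopology =
      (X.smallPretopology (P := EtCoh.etaleMP) (Q := EtCoh.etaleMP)).toGrothendieck :=
    Scheme.smallGrothendieckTopology_eq_toGrothendieck_smallPretopology X le_rfl
  rw [eX]
  constructor
  · intro h x
    obtain ⟨V, f, y, hf, -, hy⟩ := (Scheme.mem_toGrothendieck_smallPretopology U R).1 h x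
    exact ⟨V, f, y, hf, hy⟩
  · intro h
    refine (Scheme.mem_toGrothendieck_smallPretopology U R).2 fun x => ?_
    obtain ⟨V, f, y, hf, hy⟩ := h x
    exact ⟨V, f, y, hf, inferInstance, hy⟩

/-- A jointly surjective family generates a covering sieve. -/
lemma ofArrows_mem {U : X.Etale} {ι : Type (u + 1)} (Y : ι → Over U)
    (hY : ∀ x : ↥(U.left), ∃ (i : ι) (y : ↥((Y i).left.left)), (Y i).hom.left.base y = x) :
    Sieve.ofArrows (fun i => (Y i).left) (fun i => (Y i).hom) ∈ X.smallEtaleTopology U := by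
  rw [mem_smallEtaleTopology_iff]
  intro x
  obtain ⟨i, y, hy⟩ := hY x
  exact ⟨(Y i).left, (Y i).hom, y, Sieve.ofArrows_mk _ _ i, hy⟩

/-- The family of all arrows of a sieve. -/
abbrev sieveFam {U : X.Etale} (R : Sieve U) :
    (Σ V : X.Etale, {f : V ⟶ U // R.arrows f}) → Over U := fun i => Over.mk i.2.1

lemma sieveFam_surj {U : X.Etale} (R : Sieve U) (hR : R ∈ X.smallEtaleTopology U) :
    ∀ x : ↥(U.left), ∃ (i : Σ V : X.Etale, {f : V ⟶ U // R.arrows f})
      (y : ↥((sieveFam R i).left.left)), (sieveFam R i).hom.left.base y = x := by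
  intro x
  obtain ⟨V, f, y, hf, hy⟩ := (mem_smallEtaleTopology_iff U R).1 hR x
  exact ⟨⟨V, f, hf⟩, y, hy⟩

/-- The underlying presheaf of sets of an abelian étale sheaf is a sheaf. -/
lemma isSheaf_forget (Q : EtCoh.Ab X) :
    Presieve.IsSheaf X.smallEtaleTopology (Q.obj ⋙ forget AddCommGrpCat.{u + 1}) := by
  rw [← isSheaf_iff_isSheaf_of_type]
  exact (Presheaf.isSheaf_iff_isSheaf_forget X.smallEtaleTopology Q.obj
    (forget AddCommGrpCat.{u + 1})).1 Q.property

/-- Čech-flasqueness (the hypothesis of the statements), as a predicate. -/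
def CechFlasque [∀ U : X.Etale, HasFiniteProducts (Over U)] (F : EtCoh.Ab X) : Prop :=
  ∀ (U : X.Etale) (ι : Type (u + 1)) (Uf : ι → Over U),
    (∀ x : ↥(U.left), ∃ (i : ι) (y : ↥((Uf i).left.left)), (Uf i).hom.left.base y = x) →
    ∀ p : ℕ, 0 < p → IsZero (EtCech.cechH Uf F.obj p)

variable [∀ U : X.Etale, HasFiniteProducts (Over U)]

/-- If the kernel is Čech-flasque, the epimorphism is surjective on sections. -/
theorem surjective_of_cechFlasque (S : ShortComplex (EtCoh.Ab X)) (hS : S.ShortExact)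
    (h1 : CechFlasque S.X₁) (W : X.Etale) : Function.Surjective (S.g.hom.app (op W)) := by
  intro t
  have hepi : Epi S.g := hS.epi_g
  have hls : Presheaf.IsLocallySurjective X.smallEtaleTopology S.g.hom :=
    (Sheaf.isLocallySurjective_iff_epi' (J := X.smallEtaleTopology)
      (A := AddCommGrpCat.{u + 1}) S.g).2 hepi
  have hT : Presheaf.imageSieve S.g.hom t ∈ X.smallEtaleTopology W := hls.imageSieve_mem t
  let Y := sieveFam (Presheaf.imageSieve S.g.hom t)
  have hsurj := sieveFam_surj _ hT
  have hY := ofArrows_mem Y hsurj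
  have hacyc : Acyc Y (Site.rP S.X₁.obj) 0 :=
    (isZero_homology_succ_iff_acyc Y _ 0).1 (h1 W _ Y hsurj 1 Nat.one_pos)
  exact Site.exists_lift_of_acyc_zero Y S hS isSheaf_forget hY hacyc t (fun i => i.2.2)

/-- The quotient of a Čech-flasque sheaf by a Čech-flasque subsheaf is Čech-flasque. -/
theorem cechFlasque_quot (S : ShortComplex (EtCoh.Ab X)) (hS : S.ShortExact)
    (h1 : CechFlasque S.X₁) (h2 : CechFlasque S.X₂) : CechFlasque S.X₃ := by
  intro U ι Uf hU p hp
  obtain ⟨n, rfl⟩ : ∃ n, p = n + 1 := ⟨p - 1, by omega⟩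
  have hse := Site.secExact_of_shortExact Uf S hS
    (fun n σ => surjective_of_cechFlasque S hS h1 _)
  refine (isZero_homology_succ_iff_acyc Uf _ n).2 (hse.acyc_quot n ?_ ?_)
  · exact (isZero_homology_succ_iff_acyc Uf _ n).1 (h2 U ι Uf hU (n + 1) (Nat.succ_pos _))
  · exact (isZero_homology_succ_iff_acyc Uf _ (n + 1)).1 (h1 U ι Uf hU (n + 2) (Nat.succ_pos _))

end Groth.Agent.Lib.Helper22.CechU.Etale
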