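import Groth.Agent.Lib.Helper22.CechU.LES
import Groth.Agent.Lib.Helper25.DeltaFEff
import Groth.Prelude.Def_EtCech
import Groth.Prelude.Def_DeltaF
import Mathlib.Algebra.Homology.HomologySequenceLemmas

/-!
# Čech cohomology with respect to a family over `U` as a δ-functor on abelian presheaves
(universe-general version, for `EtCech.cechHFunctor`)
-/

set_option autoImplicit false
set_option linter.unusedSectionVars false

universe w v u

open CategoryTheory CategoryTheory.Limits Opposite

namespace Groth.Agent.Lib.Helper22.CechU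

variable {C : Type u} [Category.{v} C] {U : C} [HasFiniteProducts (Over U)] {ι : Type w}
  (Y : ι → Over U)

/-- Restriction to `Over U` followed by the Čech complex functor. -/
noncomputable abbrev cxF : (Cᵒᵖ ⥤ AddCommGrpCat.{w}) ⥤ CochainComplex AddCommGrpCat.{w} ℕ :=
  (Functor.whiskeringLeft (Over U)ᵒᵖ Cᵒᵖ AddCommGrpCat.{w}).obj (Over.forget U).op ⋙
    cechComplexFunctor Y

/-- The restriction to `Over U` of a morphism of presheaves. -/
abbrev rMap {P Q : Cᵒᵖ ⥤ AddCommGrpCat.{w}} (f : P ⟶ Q) :
    (Over.forget U).op ⋙ P ⟶ (Over.forget U).op ⋙ Q :=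
  Functor.whiskerLeft (Over.forget U).op f

/-- Sectionwise exactness on the nerve of a short exact sequence of presheaves. -/
lemma secExact_of_shortExact_presheaf (S : ShortComplex (Cᵒᵖ ⥤ AddCommGrpCat.{w}))
    (hS : S.ShortExact) : SecExact Y (rMap (U := U) S.f) (rMap S.g) := by
  have key : ∀ W : C, (S.map ((evaluation Cᵒᵖ AddCommGrpCat.{w}).obj (op W))).ShortExact :=
    fun W => hS.map_of_exact _
  refine ⟨fun n σ => ?_, fun n σ => ?_, fun n σ x => ?_, fun n σ y hy => ?_⟩
  · exact (AddCommGrpCat.mono_iff_injective _).1 (key (Uσ Y σ).left).mono_f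
  · exact (AddCommGrpCat.epi_iff_surjective _).1 (key (Uσ Y σ).left).epi_g
  · have h := NatTrans.congr_app S.zero (op (Uσ Y σ).left)
    exact ConcreteCategory.congr_hom h x
  · exact (ShortComplex.ab_exact_iff _).1 (key (Uσ Y σ).left).exact y hy

/-- The Čech complex functor preserves short exact sequences of presheaves. -/
lemma cx_shortExact (S : ShortComplex (Cᵒᵖ ⥤ AddCommGrpCat.{w})) (hS : S.ShortExact) :
    (S.map (cxF Y)).ShortExact := by
  have w : rMap (U := U) S.f ≫ rMap S.g = 0 := by
    change Functor.whiskerLeft (Over.forget U).op S.f ≫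
      Functor.whiskerLeft (Over.forget U).op S.g = 0
    rw [← Functor.whiskerLeft_comp, S.zero]
    rfl
  exact cechSC_shortExact w (secExact_of_shortExact_presheaf Y S hS)

instance additive_cxF : (cxF (C := C) Y).Additive where
  map_add {P Q f g} := by
    apply HomologicalComplex.hom_ext
    intro n
    rw [HomologicalComplex.add_f_apply]
    ext x
    apply ext_proj
    intro σ
    rw [AddCommGrpCat.hom_add_apply, map_add]
    erw [proj_map, proj_map, proj_map]
    rfl

/-- Čech cohomology with respect to `Y` as a cohomological δ-functor on abelian presheaves. -/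
noncomputable def cechDelta :
    DeltaF.CohDeltaFunctor (Cᵒᵖ ⥤ AddCommGrpCat.{w}) AddCommGrpCat.{w} ℕ where
  F n := EtCech.cechHFunctor Y n
  additive n := inferInstanceAs
    (cxF Y ⋙ HomologicalComplex.homologyFunctor AddCommGrpCat.{w} (ComplexShape.up ℕ) n).Additive
  δ S hS n₀ n₁ h := (cx_shortExact Y S hS).δ n₀ n₁ h
  δ_natural {S S'} hS hS' φ n₀ n₁ h :=
    (HomologicalComplex.HomologySequence.δ_naturality
      ((cxF Y).mapShortComplex.map φ) (cx_shortExact Y S hS)
      (cx_shortExact Y S' hS') n₀ n₁ h).symm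
  exact₂ S hS n := (cx_shortExact Y S hS).homology_exact₂ n
  comp_δ S hS n₀ n₁ h := (cx_shortExact Y S hS).comp_δ n₀ n₁ h
  exact₃ S hS n₀ n₁ h := (cx_shortExact Y S hS).homology_exact₃ n₀ n₁ h
  δ_comp S hS n₀ n₁ h := (cx_shortExact Y S hS).δ_comp n₀ n₁ h
  exact₁ S hS n₀ n₁ h := (cx_shortExact Y S hS).homology_exact₁ n₀ n₁ h

lemma cechDelta_F (n : ℕ) : (cechDelta Y).F n = EtCech.cechHFunctor Y n := rfl

/-- `Ȟ⁰` sends monomorphisms of presheaves in a short exact sequence to monomorphisms. -/
lemma mono_cechH_zero_map (S : ShortComplex (Cᵒᵖ ⥤ AddCommGrpCat.{w})) (hS : S.ShortExact) :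
    Mono ((EtCech.cechHFunctor Y 0).map S.f) := by
  have hse := cx_shortExact Y S hS
  have hm : Mono ((cxF Y).map S.f) := hse.mono_f
  have hm0 : ∀ i, Mono (((cxF Y).map S.f).f i) := fun i =>
    inferInstanceAs (Mono ((HomologicalComplex.eval _ _ i).map ((cxF Y).map S.f)))
  have hc : Mono (HomologicalComplex.cyclesMap ((cxF Y).map S.f) 0) := by
    have : Mono (HomologicalComplex.cyclesMap ((cxF Y).map S.f) 0 ≫
        ((cxF Y).obj S.X₂).iCycles 0) := by
      rw [HomologicalComplex.cyclesMap_i]
      exact mono_comp _ _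
    exact mono_of_mono _ (((cxF Y).obj S.X₂).iCycles 0)
  have hnat := HomologicalComplex.homologyπ_naturality ((cxF Y).map S.f) 0
  have heq : HomologicalComplex.homologyMap ((cxF Y).map S.f) 0 =
      inv (((cxF Y).obj S.X₁).homologyπ 0) ≫
        HomologicalComplex.cyclesMap ((cxF Y).map S.f) 0 ≫ ((cxF Y).obj S.X₂).homologyπ 0 := by
    rw [IsIso.eq_inv_comp]
    exact hnat
  change Mono (HomologicalComplex.homologyMap ((cxF Y).map S.f) 0)
  rw [heq]
  infer_instance

end Groth.Agent.Lib.Helper22.CechU
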