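import Groth.Agent.Lib.Helper22.CechU.LES
import Groth.Agent.Lib.Helper22.CechU.Eval

/-!
# Čech cohomology on a site with respect to a family of objects over `U`
-/

set_option autoImplicit false

universe u v u'

open CategoryTheory CategoryTheory.Limits Opposite

namespace Groth.Agent.Lib.Helper22.CechU.Site

set_option linter.unusedSectionVars false

variable {C : Type u'} [Category.{v} C] {J : GrothendieckTopology C}
  [HasSheafify J AddCommGrpCat.{u}]

section resCochain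

variable {U : C} [HasFiniteProducts (Over U)] {ι : Type u} (Y : ι → Over U)
  (P : Cᵒᵖ ⥤ AddCommGrpCat.{u})

/-- The restriction of a presheaf on `C` to `Over U`. -/
abbrev rP : (Over U)ᵒᵖ ⥤ AddCommGrpCat.{u} := (Over.forget U).op ⋙ P

/-- The cochain of restrictions of a section over `U`. -/
noncomputable def resCochain (s : P.obj (op U)) (n : ℕ) : (CK Y (rP P)).X n :=
  mk Y (rP P) fun σ => P.map (Uσ Y σ).hom.op s

@[simp]
lemma proj_resCochain (s : P.obj (op U)) (n : ℕ) (σ : Fin (n + 1) → ι) :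
    proj Y (rP P) n σ (resCochain Y P s n) = P.map (Uσ Y σ).hom.op s := by
  unfold resCochain
  rw [proj_mk]

lemma ev_resCochain (s : P.obj (op U)) (n : ℕ) {z : Over U} (t : T Y n z) :
    ev Y (rP P) (resCochain Y P s n) t = P.map z.hom.op s := by
  unfold ev
  rw [proj_resCochain]
  change P.map (toProd Y t).left.op (P.map (Uσ Y (idx Y t)).hom.op s) = _
  rw [← ConcreteCategory.comp_apply, ← P.map_comp, ← op_comp, Over.w]

lemma d_resCochain_zero (s : P.obj (op U)) :
    (CK Y (rP P)).d 0 1 (resCochain Y P s 0) = 0 := by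
  apply ext_proj
  intro σ
  rw [← ev_can, ev_d_zero, ev_resCochain, ev_resCochain, sub_self, map_zero]

lemma cmap_resCochain {Q : Cᵒᵖ ⥤ AddCommGrpCat.{u}} (f : P ⟶ Q) (s : P.obj (op U)) (n : ℕ) :
    cmap Y (Functor.whiskerLeft (Over.forget U).op f) n (resCochain Y P s n) =
      resCochain Y Q (f.app (op U) s) n := by
  apply ext_proj
  intro σ
  rw [proj_map, proj_resCochain, proj_resCochain]
  exact NatTrans.naturality_apply f (Uσ Y σ).hom.op s

end resCochain

section glue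

variable {U : C} [HasFiniteProducts (Over U)] {ι : Type u} (Y : ι → Over U)
  (Q : Sheaf J AddCommGrpCat.{u})

lemma can_eq_pre_sing (σ : Fin 1 → ι) :
    can Y σ = T.pre Y (Pi.π (Y ∘ σ) 0) (sing Y ⟨σ 0, 𝟙 (Y (σ 0))⟩) := by
  funext k
  fin_cases k
  change (⟨σ 0, Pi.π (Y ∘ σ) 0⟩ : SV Y (Uσ Y σ)) = ⟨σ 0, Pi.π (Y ∘ σ) 0 ≫ 𝟙 _⟩
  rw [Category.comp_id]

lemma sing_eq_pre_sing {z : Over U} (i : ι) (G : z ⟶ Y i) :
    sing Y (⟨i, G⟩ : SV Y z) = T.pre Y G (sing Y ⟨i, 𝟙 (Y i)⟩) := by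
  funext k
  change (⟨i, G⟩ : SV Y z) = ⟨i, G ≫ 𝟙 _⟩
  rw [Category.comp_id]

variable (hQ : Presieve.IsSheaf J (Q.obj ⋙ forget AddCommGrpCat.{u}))
  (hY : Sieve.ofArrows (fun i => (Y i).left) (fun i => (Y i).hom) ∈ J U)
include hQ hY

/-- A Čech `0`-cocycle of a sheaf with respect to a covering family glues to a section. -/
theorem exists_section_of_cocycle (a : (CK Y (rP Q.obj)).X 0)
    (ha : (CK Y (rP Q.obj)).d 0 1 a = 0) :
    ∃ s : Q.obj.obj (op U), resCochain Y Q.obj s 0 = a := by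
  have hS := hQ.isSheafFor
    (Presieve.ofArrows (fun i => (Y i).left) (fun i => (Y i).hom)) hY
  rw [Presieve.isSheafFor_arrows_iff] at hS
  let x : ∀ i, Q.obj.obj (op (Y i).left) := fun i =>
    ev Y (rP Q.obj) a (sing Y ⟨i, 𝟙 (Y i)⟩)
  have hx : Presieve.Arrows.Compatible (Q.obj ⋙ forget AddCommGrpCat.{u})
      (fun i => (Y i).hom) x := by
    intro i j Z gi gj hij
    let z : Over U := Over.mk (gi ≫ (Y i).hom)
    let Gi : z ⟶ Y i := Over.homMk gi rfl
    let Gj : z ⟶ Y j := Over.homMk gj hij.symm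
    let t : T Y 1 z := ![⟨i, Gi⟩, ⟨j, Gj⟩]
    have h1 := ev_d_zero Y (rP Q.obj) a t
    rw [ha, ev_zero] at h1
    have h2 : ev Y (rP Q.obj) a (sing Y (t 0)) = Q.obj.map gi.op (x i) := by
      change ev Y (rP Q.obj) a (sing Y (⟨i, Gi⟩ : SV Y z)) = _
      rw [sing_eq_pre_sing, ev_pre]
      rfl
    have h3 : ev Y (rP Q.obj) a (sing Y (t 1)) = Q.obj.map gj.op (x j) := by
      change ev Y (rP Q.obj) a (sing Y (⟨j, Gj⟩ : SV Y z)) = _
      rw [sing_eq_pre_sing, ev_pre]
      rfl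
    rw [h2, h3] at h1
    exact (sub_eq_zero.mp h1.symm).symm
  obtain ⟨s, hs, -⟩ := hS x hx
  refine ⟨s, ?_⟩
  apply ext_proj
  intro σ
  rw [proj_resCochain, ← ev_can, can_eq_pre_sing, ev_pre]
  have h4 : ev Y (rP Q.obj) a (sing Y ⟨σ 0, 𝟙 (Y (σ 0))⟩) = Q.obj.map (Y (σ 0)).hom.op s :=
    (hs (σ 0)).symm
  rw [h4]
  change Q.obj.map (Uσ Y σ).hom.op s =
    Q.obj.map (Pi.π (Y ∘ σ) 0).left.op (Q.obj.map (Y (σ 0)).hom.op s)
  have hw : (Pi.π (Y ∘ σ) 0).left ≫ (Y (σ 0)).hom = (Uσ Y σ).hom := Over.w (Pi.π (Y ∘ σ) 0)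
  rw [← ConcreteCategory.comp_apply, ← Q.obj.map_comp, ← op_comp, hw]

/-- Sections of a sheaf are determined by their restrictions to a covering family. -/
lemma resCochain_zero_injective (s s' : Q.obj.obj (op U))
    (h : resCochain Y Q.obj s 0 = resCochain Y Q.obj s' 0) : s = s' := by
  have hS := hQ.isSheafFor
    (Presieve.ofArrows (fun i => (Y i).left) (fun i => (Y i).hom)) hY
  have key : ∀ i, Q.obj.map (Y i).hom.op s = Q.obj.map (Y i).hom.op s' := by
    intro i
    have h1 := congrArg (fun a => ev Y (rP Q.obj) a (sing Y ⟨i, 𝟙 (Y i)⟩)) h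
    simp only [ev_resCochain] at h1
    exact h1
  refine hS.isSeparatedFor.ext fun V f hf => ?_
  obtain ⟨i⟩ := hf
  exact key i

end glue

section exactness

/-- A monomorphism of sheaves is injective on sections. -/
lemma injective_app_of_mono {F G : Sheaf J AddCommGrpCat.{u}} (f : F ⟶ G) [Mono f] (W : C) :
    Function.Injective (f.hom.app (op W)) := by
  have h1 : Mono ((sheafToPresheaf J AddCommGrpCat.{u}).map f) := inferInstance
  have h2 : Mono (((sheafToPresheaf J AddCommGrpCat.{u}).map f).app (op W)) := inferInstance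
  exact (AddCommGrpCat.mono_iff_injective _).mp h2

/-- Left exactness of sections. -/
lemma sections_exact_of_left_exact {S : ShortComplex (Sheaf J AddCommGrpCat.{u})}
    (hS : S.Exact) (hf : Mono S.f) (W : C) (y : S.X₂.obj.obj (op W))
    (hy : S.g.hom.app (op W) y = 0) : ∃ x, S.f.hom.app (op W) x = y := by
  have h1 := ((Functor.preservesFiniteLimits_tfae (sheafToPresheaf J AddCommGrpCat.{u})).out 1 3
    rfl rfl).mpr inferInstance S ⟨hS, hf⟩
  let F := (evaluation Cᵒᵖ AddCommGrpCat.{u}).obj (op W)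
  exact (ShortComplex.ab_exact_iff ((S.map (sheafToPresheaf J AddCommGrpCat.{u})).map F)).mp
    (((Functor.exact_tfae F).out 1 3 rfl rfl).mpr ⟨inferInstance, inferInstance⟩ _ h1.1) _ hy

variable {U : C} [HasFiniteProducts (Over U)] {ι : Type u} (Y : ι → Over U)

/-- The restriction to `Over U` of a morphism of presheaves. -/
abbrev rMap {P Q : Cᵒᵖ ⥤ AddCommGrpCat.{u}} (f : P ⟶ Q) : rP (U := U) P ⟶ rP Q :=
  Functor.whiskerLeft (Over.forget U).op f

/-- Sectionwise left exactness of a short exact sequence of sheaves. -/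
lemma secLeftExact_of_shortExact (S : ShortComplex (Sheaf J AddCommGrpCat.{u}))
    (hS : S.ShortExact) : SecLeftExact Y (rMap (U := U) S.f.hom) (rMap S.g.hom) where
  inj n σ := by
    have := hS.mono_f
    exact injective_app_of_mono S.f _
  zero n σ x := by
    have h := S.zero
    have h2 : (S.f ≫ S.g).hom.app (op (Uσ Y σ).left) x = 0 := by
      rw [h]
      rfl
    exact h2
  exact n σ y hy := by
    have := hS.mono_f
    exact sections_exact_of_left_exact hS.1 this _ y hy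

/-- Sectionwise exactness, given surjectivity on the nerve. -/
lemma secExact_of_shortExact (S : ShortComplex (Sheaf J AddCommGrpCat.{u})) (hS : S.ShortExact)
    (hsurj : ∀ (n : ℕ) (σ : Fin (n + 1) → ι),
      Function.Surjective (S.g.hom.app (op (Uσ Y σ).left))) :
    SecExact Y (rMap (U := U) S.f.hom) (rMap S.g.hom) where
  inj := (secLeftExact_of_shortExact Y S hS).inj
  surj := hsurj
  zero := (secLeftExact_of_shortExact Y S hS).zero
  exact := (secLeftExact_of_shortExact Y S hS).exact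

/-- The `Ȟ¹` criterion on a site. -/
theorem exists_lift_of_acyc_zero (S : ShortComplex (Sheaf J AddCommGrpCat.{u})) (hS : S.ShortExact)
    (hQ : ∀ Q : Sheaf J AddCommGrpCat.{u}, Presieve.IsSheaf J (Q.obj ⋙ forget AddCommGrpCat.{u}))
    (hY : Sieve.ofArrows (fun i => (Y i).left) (fun i => (Y i).hom) ∈ J U)
    (hacyc : Acyc Y (rP S.X₁.obj) 0) (t : S.X₃.obj.obj (op U))
    (hloc : ∀ i, ∃ s : S.X₂.obj.obj (op (Y i).left),
      S.g.hom.app (op (Y i).left) s = S.X₃.obj.map (Y i).hom.op t) :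
    ∃ s, S.g.hom.app (op U) s = t := by
  choose sl hsl using hloc
  have hle := secLeftExact_of_shortExact Y S hS
  let a : (CK Y (rP S.X₂.obj)).X 0 :=
    mk Y (rP S.X₂.obj) fun σ => S.X₂.obj.map (Pi.π (Y ∘ σ) 0).left.op (sl (σ 0))
  have ha : cmap Y (rMap S.g.hom) 0 a = resCochain Y S.X₃.obj t 0 := by
    apply ext_proj
    intro σ
    rw [proj_map, proj_mk, proj_resCochain]
    change S.g.hom.app (op (Uσ Y σ).left)
      (S.X₂.obj.map (Pi.π (Y ∘ σ) 0).left.op (sl (σ 0))) = _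
    rw [NatTrans.naturality_apply]
    have hsl' : S.g.hom.app (op ((Y ∘ σ) 0).left) (sl (σ 0)) =
        S.X₃.obj.map (Y (σ 0)).hom.op t := hsl (σ 0)
    rw [hsl']
    have hw : (Pi.π (Y ∘ σ) 0).left ≫ (Y (σ 0)).hom = (Uσ Y σ).hom := Over.w (Pi.π (Y ∘ σ) 0)
    rw [← ConcreteCategory.comp_apply, ← S.X₃.obj.map_comp, ← op_comp, hw]
  have hd : (CK Y (rP S.X₃.obj)).d 0 1 (cmap Y (rMap S.g.hom) 0 a) = 0 := by
    rw [ha, d_resCochain_zero]
  obtain ⟨a', ha'1, ha'2⟩ := hle.exists_cocycle_lift hacyc a hd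
  obtain ⟨s, hs⟩ := exists_section_of_cocycle Y S.X₂ (hQ _) hY a' ha'1
  refine ⟨s, ?_⟩
  apply resCochain_zero_injective Y S.X₃ (hQ _) hY
  rw [← cmap_resCochain, hs]
  exact ha'2.trans ha

end exactness

end Groth.Agent.Lib.Helper22.CechU.Site
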