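import Groth.Agent.Lib.Helper22.CechU.Bridge

/-!
# Tuples of morphisms into the members of a family (universe-general)
-/

set_option autoImplicit false

universe u v u'

open CategoryTheory CategoryTheory.Limits Opposite

namespace Groth.Agent.Lib.Helper22.CechU

variable {C : Type u'} [Category.{v} C] {ι : Type u} (U : ι → C)

/-- Pairs of an index and a map to the corresponding member of the family. -/
abbrev SV (V : C) : Type (max u v) := Σ i : ι, (V ⟶ U i)

/-- Precomposition. -/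
def SV.pre {V W : C} (h : W ⟶ V) (s : SV U V) : SV U W := ⟨s.1, h ≫ s.2⟩

@[simp] lemma SV.pre_id {V : C} (s : SV U V) : SV.pre U (𝟙 V) s = s := by
  cases s; simp [SV.pre]

@[simp] lemma SV.pre_comp {V W Z : C} (h : W ⟶ V) (h' : Z ⟶ W) (s : SV U V) :
    SV.pre U (h' ≫ h) s = SV.pre U h' (SV.pre U h s) := by
  cases s; simp [SV.pre]

/-- Tuples of elements of `S_V`. -/
abbrev T (n : ℕ) (V : C) : Type (max u v) := Fin (n + 1) → SV U V

/-- Precomposition on tuples. -/
def T.pre {n : ℕ} {V W : C} (h : W ⟶ V) (s : T U n V) : T U n W := fun j => SV.pre U h (s j)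

@[simp] lemma T.pre_id {n : ℕ} {V : C} (s : T U n V) : T.pre U (𝟙 V) s = s := by
  funext j; simp [T.pre]

@[simp] lemma T.pre_comp {n : ℕ} {V W Z : C} (h : W ⟶ V) (h' : Z ⟶ W) (s : T U n V) :
    T.pre U (h' ≫ h) s = T.pre U h' (T.pre U h s) := by
  funext j; simp [T.pre]

lemma T.pre_comp_succAbove {n : ℕ} {V W : C} (h : W ⟶ V) (s : T U (n + 1) V) (k : Fin (n + 2)) :
    T.pre U h (s ∘ k.succAbove) = (T.pre U h s) ∘ k.succAbove := rfl

variable [HasFiniteProducts C]

/-- The canonical tuple over `U_σ`. -/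
noncomputable def can {n : ℕ} (σ : Fin (n + 1) → ι) : T U n (Uσ U σ) :=
  fun j => ⟨σ j, Pi.π (U ∘ σ) j⟩

/-- The index tuple of a tuple. -/
abbrev idx {n : ℕ} {V : C} (s : T U n V) : Fin (n + 1) → ι := fun j => (s j).1

/-- The map to the product determined by a tuple. -/
noncomputable def toProd {n : ℕ} {V : C} (s : T U n V) : V ⟶ Uσ U (idx U s) :=
  Pi.lift (fun j => ((s j).2 : V ⟶ (U ∘ idx U s) j))

@[reassoc (attr := simp)]
lemma toProd_π {n : ℕ} {V : C} (s : T U n V) (j : Fin (n + 1)) :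
    toProd U s ≫ Pi.π (U ∘ idx U s) j = (s j).2 :=
  Pi.lift_π _ j

lemma toProd_pre {n : ℕ} {V W : C} (h : W ⟶ V) (s : T U n V) :
    toProd U (T.pre U h s) = h ≫ toProd U s := by
  refine Pi.hom_ext (f := U ∘ idx U s) _ _ (fun j => ?_)
  have h1 : toProd U (T.pre U h s) ≫ Pi.π (U ∘ idx U s) j = h ≫ (s j).2 :=
    toProd_π U (T.pre U h s) j
  exact h1.trans (by rw [Category.assoc, toProd_π])

lemma toProd_can {n : ℕ} (σ : Fin (n + 1) → ι) : toProd U (can U σ) = 𝟙 (Uσ U σ) := by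
  refine Pi.hom_ext (f := U ∘ σ) _ _ (fun j => ?_)
  have h1 : toProd U (can U σ) ≫ Pi.π (U ∘ σ) j = Pi.π (U ∘ σ) j := toProd_π U (can U σ) j
  exact h1.trans (Category.id_comp _).symm

lemma pre_can {n : ℕ} {V : C} (s : T U n V) : T.pre U (toProd U s) (can U (idx U s)) = s := by
  funext j
  change (⟨(s j).1, toProd U s ≫ Pi.π (U ∘ idx U s) j⟩ : SV U V) = s j
  rw [toProd_π]

lemma toProd_can_comp_succAbove {n : ℕ} (σ : Fin (n + 2) → ι) (k : Fin (n + 2)) :
    toProd U (can U σ ∘ k.succAbove) = face U σ k := rfl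

end Groth.Agent.Lib.Helper22.CechU
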